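import Groth.Prelude.Def_W4c1liftfrobW2
import Groth.Agent.WittTwo.Basic
import Mathlib.Algebra.MvPolynomial.PDeriv

/-!
# Lifts of Frobenius on polynomial rings over `W₂(k)`
-/

set_option autoImplicit false
universe u

open MvPolynomial FrobAlg

namespace Groth.Agent.FrobResid

variable (p : ℕ) [Fact p.Prime] (k : Type u) [Field k] [CharP k p] [PerfectRing k p] {n : ℕ}

theorem p_mul_p : (p : MvPolynomial (Fin n) (W2 p k)) * p = 0 := by
  rw [← map_natCast (C : W2 p k →+* MvPolynomial (Fin n) (W2 p k)), ← map_mul,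
    WittTwo.p_sq p (CharP.cast_eq_zero k p), map_zero]

theorem ker_map_res : RingHom.ker (MvPolynomial.map (σ := Fin n) (res p k)) =
    Ideal.span {(p : MvPolynomial (Fin n) (W2 p k))} := by
  rw [MvPolynomial.ker_map, WittTwo.ker_res, Ideal.map_span, Set.image_singleton, map_natCast]

theorem mem_span_p_iff {x : MvPolynomial (Fin n) (W2 p k)} :
    x ∈ Ideal.span {(p : MvPolynomial (Fin n) (W2 p k))} ↔ MvPolynomial.map (res p k) x = 0 := by
  rw [← ker_map_res, RingHom.mem_ker]

theorem p_mul_congr {x y : MvPolynomial (Fin n) (W2 p k)}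
    (h : MvPolynomial.map (res p k) x = MvPolynomial.map (res p k) y) :
    (p : MvPolynomial (Fin n) (W2 p k)) * x = p * y := by
  obtain ⟨c, hc⟩ := Ideal.mem_span_singleton'.1
    ((mem_span_p_iff p k).2 (by rw [map_sub, h, sub_self]) : x - y ∈ _)
  rw [← sub_eq_zero, ← mul_sub, ← hc, mul_left_comm, p_mul_p, mul_zero]

theorem res_sigma (a : W2 p k) : res p k (sigma p k a) = res p k a ^ p := by
  rw [res_apply, res_apply, WittGrp.coeff_frob]

theorem map_res_polyFrob (g : MvPolynomial (Fin n) (W2 p k)) :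
    MvPolynomial.map (res p k) (polyFrob p k (Fin n) g) = MvPolynomial.map (res p k) g ^ p := by
  induction g using MvPolynomial.induction_on with
  | C a => rw [polyFrob, eval₂Hom_C, RingHom.comp_apply, map_C, map_C, res_sigma, map_pow]
  | add a b ha hb => rw [map_add, map_add, ha, hb, map_add, add_pow_char]
  | mul_X a i ha => rw [map_mul, map_mul, ha, polyFrob, eval₂Hom_X', map_pow, map_mul, mul_pow]

/-- The lift `x_j ↦ x_j^p - p h_j` of Frobenius. -/
noncomputable def psi (h : Fin n → MvPolynomial (Fin n) (W2 p k)) :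
    MvPolynomial (Fin n) (W2 p k) →+* MvPolynomial (Fin n) (W2 p k) :=
  eval₂Hom (C.comp (sigma p k)) fun j => X j ^ p - (p : MvPolynomial (Fin n) (W2 p k)) * h j

theorem psi_apply (h : Fin n → MvPolynomial (Fin n) (W2 p k)) (g : MvPolynomial (Fin n) (W2 p k)) :
    psi p k h g = polyFrob p k (Fin n) g -
      (p : MvPolynomial (Fin n) (W2 p k)) * ∑ j, pderiv j g ^ p * h j := by
  classical
  induction g using MvPolynomial.induction_on with
  | C a => simp [psi, polyFrob, zero_pow (Fact.out : p.Prime).ne_zero]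
  | add a b ha hb =>
    rw [map_add, ha, hb, map_add, sub_add_sub_comm, ← mul_add]
    congr 1
    refine p_mul_congr p k ?_
    simp only [map_add, map_sum, map_mul, map_pow, add_pow_char, add_mul, Finset.sum_add_distrib]
  | mul_X a i ha =>
    have hX : psi p k h (X i) = X i ^ p - (p : MvPolynomial (Fin n) (W2 p k)) * h i := eval₂Hom_X' ..
    have hF : polyFrob p k (Fin n) (a * X i) = polyFrob p k (Fin n) a * X i ^ p := by
      rw [map_mul, polyFrob, eval₂Hom_X']
    rw [map_mul, ha, hX, hF]
    have key : (p : MvPolynomial (Fin n) (W2 p k)) * (∑ j, pderiv j (a * X i) ^ p * h j) =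
        (p : MvPolynomial (Fin n) (W2 p k)) * (polyFrob p k (Fin n) a * h i + (∑ j, pderiv j a ^ p * h j) * X i ^ p) := by
      refine p_mul_congr p k ?_
      simp only [map_add, map_sum, map_mul, map_pow, map_res_polyFrob, pderiv_mul, pderiv_X,
        add_pow_char, mul_pow, add_mul, Finset.sum_add_distrib, Finset.sum_mul]
      rw [add_comm]
      congr 1
      · rw [Finset.sum_eq_single i]
        · simp
        · intro j _ hj
          simp [Pi.single_eq_of_ne hj.symm, zero_pow (Fact.out : p.Prime).ne_zero]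
        · intro hh; exact absurd (Finset.mem_univ i) hh
      · exact Finset.sum_congr rfl fun j _ => by ring
    rw [key]
    linear_combination ((∑ j, pderiv j a ^ p * h j) * h i) * p_mul_p p k (n := n)

theorem map_res_psi (h : Fin n → MvPolynomial (Fin n) (W2 p k)) (g : MvPolynomial (Fin n) (W2 p k)) :
    MvPolynomial.map (res p k) (psi p k h g) = MvPolynomial.map (res p k) g ^ p := by
  rw [psi_apply, map_sub, map_res_polyFrob, map_mul, map_natCast, CharP.cast_eq_zero, zero_mul,
    sub_zero]

theorem psi_sub_pow_mem (h : Fin n → MvPolynomial (Fin n) (W2 p k)) (g : MvPolynomial (Fin n) (W2 p k)) :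
    psi p k h g - g ^ p ∈ Ideal.span {(p : MvPolynomial (Fin n) (W2 p k))} := by
  rw [mem_span_p_iff, map_sub, map_res_psi, map_pow, sub_self]

/-- Frobenius lifts on the quotient by `J` correspond to residue congruences. -/
theorem frobLift_iff {m : ℕ} (f' : Fin m → MvPolynomial (Fin n) (W2 p k))
    (hJ : Ideal.span {(p : MvPolynomial (Fin n) (W2 p k))} ⊓ Ideal.span (Set.range f') ≤
      Ideal.span {(p : MvPolynomial (Fin n) (W2 p k))} * Ideal.span (Set.range f')) :
    (∃ Φ : (MvPolynomial (Fin n) (W2 p k) ⧸ Ideal.span (Set.range f')) →+*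
        (MvPolynomial (Fin n) (W2 p k) ⧸ Ideal.span (Set.range f')),
      Φ.comp ((Ideal.Quotient.mk (Ideal.span (Set.range f'))).comp MvPolynomial.C) =
        ((Ideal.Quotient.mk (Ideal.span (Set.range f'))).comp MvPolynomial.C).comp (sigma p k) ∧
      ∀ b, Ideal.quotientMap ((Ideal.span (Set.range f')).map (MvPolynomial.map (res p k)))
          (MvPolynomial.map (res p k)) Ideal.le_comap_map (Φ b) =
        (Ideal.quotientMap ((Ideal.span (Set.range f')).map (MvPolynomial.map (res p k)))
          (MvPolynomial.map (res p k)) Ideal.le_comap_map b) ^ p) ↔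
    ∃ h : Fin n → MvPolynomial (Fin n) (W2 p k), ∀ i,
      polyFrob p k (Fin n) (f' i) - f' i ^ p
        - (p : MvPolynomial (Fin n) (W2 p k)) * ∑ j, pderiv j (f' i) ^ p * h j
        ∈ Ideal.span {(p : MvPolynomial (Fin n) (W2 p k))} * Ideal.span (Set.range f') := by
  classical
  set J := Ideal.span (Set.range f') with hJdef
  have hfJ : ∀ i, f' i ∈ J := fun i => Ideal.subset_span ⟨i, rfl⟩
  constructor
  · rintro ⟨Φ, hΦ, hred⟩
    have hx : ∀ j, ∃ h, Φ (Ideal.Quotient.mk J (X j)) =
        Ideal.Quotient.mk J (X j ^ p - (p : MvPolynomial (Fin n) (W2 p k)) * h) := by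
      intro j
      obtain ⟨y, hy⟩ := Ideal.Quotient.mk_surjective (Φ (Ideal.Quotient.mk J (X j)))
      have h1 := hred (Ideal.Quotient.mk J (X j))
      rw [← hy, Ideal.quotientMap_mk, Ideal.quotientMap_mk, ← map_pow, ← map_pow, Ideal.Quotient.eq,
        ← map_sub, ← Ideal.mem_comap,
        Ideal.comap_map_of_surjective' _ (map_surjective (res p k) fun a => ⟨WittTwo.tm p a, by simp⟩),
        ker_map_res] at h1
      obtain ⟨u, hu, v, hv, huv⟩ := Submodule.mem_sup.1 h1
      obtain ⟨c, rfl⟩ := Ideal.mem_span_singleton'.1 hv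
      refine ⟨-c, ?_⟩
      rw [← hy, Ideal.Quotient.eq]
      have : y - (X j ^ p - (p : MvPolynomial (Fin n) (W2 p k)) * -c) = u := by
        rw [eq_sub_iff_add_eq.2 huv]; ring
      rw [this]; exact hu
    choose h hh using hx
    have hcomp : Φ.comp (Ideal.Quotient.mk J) = (Ideal.Quotient.mk J).comp (psi p k h) := by
      refine MvPolynomial.ringHom_ext (fun a => ?_) fun j => ?_
      · have := RingHom.congr_fun hΦ a
        simpa [psi] using this
      · rw [RingHom.comp_apply, RingHom.comp_apply, hh, psi, eval₂Hom_X']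
    refine ⟨h, fun i => hJ ?_⟩
    rw [sub_right_comm, ← psi_apply]
    refine Submodule.mem_inf.2 ⟨psi_sub_pow_mem p k h _, sub_mem ?_ ?_⟩
    · rw [← Ideal.Quotient.eq_zero_iff_mem]
      have := RingHom.congr_fun hcomp (f' i)
      rw [RingHom.comp_apply, RingHom.comp_apply, Ideal.Quotient.eq_zero_iff_mem.2 (hfJ i), map_zero] at this
      exact this.symm
    · exact J.pow_mem_of_mem (hfJ i) p (Fact.out : p.Prime).pos
  · rintro ⟨h, hh⟩
    have hle : J ≤ J.comap (psi p k h) := by
      rw [hJdef, Ideal.span_le]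
      rintro _ ⟨i, rfl⟩
      rw [SetLike.mem_coe, Ideal.mem_comap]
      have h1 : _ ∈ J := (Submodule.mem_inf.1 (Ideal.mul_le_inf (hh i))).2
      rw [sub_right_comm, ← psi_apply] at h1
      simpa using add_mem h1 (J.pow_mem_of_mem (hfJ i) p (Fact.out : p.Prime).pos)
    refine ⟨Ideal.quotientMap J (psi p k h) hle, RingHom.ext fun a => ?_, fun b => ?_⟩
    · simp [psi]
    · obtain ⟨g, rfl⟩ := Ideal.Quotient.mk_surjective b
      rw [Ideal.quotientMap_mk, Ideal.quotientMap_mk, Ideal.quotientMap_mk, ← map_pow, map_res_psi]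

end Groth.Agent.FrobResid
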