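import Mathlib.RingTheory.Regular.RegularSequence
import Mathlib.RingTheory.Ideal.Quotient.Operations

/-!
# Lifting regular sequences
-/

set_option autoImplicit false
universe u v

namespace Groth.Agent.FrobResid

/-- The regularity consequence used for lifting. -/
theorem mem_prefix_of_mul_mem {R : Type u} [CommRing R] {m : ℕ} (f : Fin m → R)
    (hreg : RingTheory.Sequence.IsWeaklyRegular R (List.ofFn f)) (i : Fin m) (x : R)
    (hx : f i * x ∈ Ideal.span (f '' {j | j < i})) : x ∈ Ideal.span (f '' {j | j < i}) := by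
  have hi : (i : ℕ) < (List.ofFn f).length := by simp
  have h := hreg.regular_mod_prev i hi
  have hE : Ideal.ofList ((List.ofFn f).take i) = Ideal.span (f '' {j | j < i}) := by
    rw [Ideal.ofList]
    congr 1
    ext y
    simp only [Set.mem_setOf_eq, List.mem_take_iff_getElem, List.getElem_ofFn, Set.mem_image]
    constructor
    · rintro ⟨j, hj, rfl⟩
      exact ⟨⟨j, by simp at hj; omega⟩, by simp at hj ⊢; exact hj, rfl⟩
    · rintro ⟨j, hj, rfl⟩
      exact ⟨j, by simp; omega, rfl⟩
  rw [hE, List.getElem_ofFn] at h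
  have key : ∀ y : R, y ∈ Ideal.span (f '' {j | j < i}) • (⊤ : Submodule R R) ↔ y ∈ Ideal.span (f '' {j | j < i}) := by
    intro y; rw [smul_eq_mul, Ideal.mul_top]
  rw [isSMulRegular_quotient_iff_mem_of_smul_mem] at h
  exact (key x).1 (h x ((key _).2 (by simpa using hx)))

/-- Lifts of a regular sequence meet the kernel only in `ker * ideal`. -/
theorem inf_le_mul_of_regular {R' : Type v} {R : Type u} [CommRing R'] [CommRing R] (π : R' →+* R)
    (hπ : Function.Surjective π) : ∀ {m : ℕ} (f' : Fin m → R'),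
      (∀ (i : Fin m) (x : R), π (f' i) * x ∈ Ideal.span ((fun j => π (f' j)) '' {j | j < i}) →
        x ∈ Ideal.span ((fun j => π (f' j)) '' {j | j < i})) →
      RingHom.ker π ⊓ Ideal.span (Set.range f') ≤ RingHom.ker π * Ideal.span (Set.range f') := by
  intro m
  induction m with
  | zero =>
    intro f' _ x hx
    have h : x = 0 := by simpa using (Submodule.mem_inf.1 hx).2
    rw [h]; exact zero_mem _
  | succ m ih =>
    intro f' H x hx
    obtain ⟨hxK, hxJ⟩ := Submodule.mem_inf.1 hx
    obtain ⟨a, rfl⟩ := Ideal.mem_span_range_iff_exists_fun.1 hxJ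
    rw [RingHom.mem_ker, map_sum, Fin.sum_univ_castSucc] at hxK
    simp only [map_mul] at hxK
    have himg : (fun j => π (f' j)) '' {j : Fin (m + 1) | j < Fin.last m} =
        Set.range fun j : Fin m => π (f' j.castSucc) := by
      ext y
      constructor
      · rintro ⟨j, hj, rfl⟩
        exact ⟨⟨j, hj⟩, rfl⟩
      · rintro ⟨j, rfl⟩
        exact ⟨j.castSucc, Fin.castSucc_lt_last j, rfl⟩
    have hlast : π (a (Fin.last m)) ∈ Ideal.span (Set.range fun j : Fin m => π (f' j.castSucc)) := by
      rw [← himg]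
      refine H (Fin.last m) _ ?_
      rw [himg, mul_comm, eq_neg_of_add_eq_zero_right hxK]
      exact neg_mem (Ideal.mem_span_range_iff_exists_fun.2 ⟨_, rfl⟩)
    obtain ⟨c, hc⟩ := Ideal.mem_span_range_iff_exists_fun.1 hlast
    choose c' hc' using fun j => hπ (c j)
    let k := a (Fin.last m) - ∑ j : Fin m, c' j * f' j.castSucc
    have hk : k ∈ RingHom.ker π := by
      rw [RingHom.mem_ker, map_sub, map_sum]
      simp only [map_mul, hc', hc, sub_self]
    have hle : RingHom.ker π * Ideal.span (Set.range fun j : Fin m => f' j.castSucc) ≤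
        RingHom.ker π * Ideal.span (Set.range f') :=
      Ideal.mul_mono_right (Ideal.span_mono (by rintro _ ⟨j, rfl⟩; exact ⟨_, rfl⟩))
    have heq : ∑ j, a j * f' j = (∑ j : Fin m, (a j.castSucc + c' j * f' (Fin.last m)) * f' j.castSucc) +
        k * f' (Fin.last m) := by
      simp only [k, Fin.sum_univ_castSucc, add_mul, Finset.sum_add_distrib, sub_mul, Finset.sum_mul]
      rw [Finset.sum_congr rfl fun j _ => mul_right_comm (c' j) (f' (Fin.last m)) (f' j.castSucc)]
      abel
    rw [heq]
    refine add_mem (hle (ih (fun j => f' j.castSucc) (fun i y hy => ?_) (Submodule.mem_inf.2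
      ⟨?_, Ideal.mem_span_range_iff_exists_fun.2 ⟨_, rfl⟩⟩))) (Ideal.mul_mem_mul hk (Ideal.subset_span ⟨_, rfl⟩))
    · have hs : (fun j : Fin m => π (f' j.castSucc)) '' {j | j < i} =
          (fun j => π (f' j)) '' {j | j < i.castSucc} := by
        ext z
        constructor
        · rintro ⟨j, hj, rfl⟩
          exact ⟨j.castSucc, Fin.castSucc_lt_castSucc_iff.2 hj, rfl⟩
        · rintro ⟨j, hj, rfl⟩
          have hjm : (j : ℕ) < m := lt_trans (show (j : ℕ) < (i : ℕ) from hj) i.2
          exact ⟨⟨j, hjm⟩, hj, rfl⟩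
      rw [hs] at hy ⊢
      exact H i.castSucc y hy
    · rw [heq] at hx
      simpa using sub_mem (Submodule.mem_inf.1 hx).1 (Ideal.mul_mem_right (f' (Fin.last m)) _ hk)

end Groth.Agent.FrobResid
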